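import Cfsg.Agent.H23.HeOut.Checks
import Cfsg.Agent.H59.HeCentMain

/-!
Short words in the presented Held group and the elements centralising the involution.
-/

set_option autoImplicit false

namespace Cfsg.Agent.H23.HeOut

open Cfsg.Agent.Compute Cfsg.Agent.H45 Cfsg.Agent.H59.HeCentBase

local notation "Gp" => HePres.pres.Gp

/-- value of a word in the short words -/
noncomputable def el (w : List ℕ) : Gp :=
  evalW (fun k => evalW HePres.pres.e (gw.getD k [])) w

theorem el_append (u v : List ℕ) : el (u ++ v) = el u * el v := evalW_append _ u v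

theorem el_replicate (m : ℕ) (w : List ℕ) : el (List.replicate m w).flatten = el w ^ m :=
  evalW_pow _ m w

theorem el_const (m k : ℕ) : el (List.replicate m k) = el [k] ^ m := by
  induction m with
  | zero => simp [el, evalW]
  | succ m ih =>
    rw [List.replicate_succ, pow_succ', ← ih, ← el_append]
    rfl

theorem gw_lt {k : ℕ} : ∀ l ∈ gw.getD k [], l < 7 := by
  intro l hl
  rcases Nat.lt_or_ge k gw.length with hk | hk
  · rw [List.getD_eq_getElem _ _ hk] at hl
    have h := (lall_iff _ _).mp gw_letters _ (List.getElem_mem hk)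
    simp only [lettersOK, lall_iff, Nat.ble_eq, Nat.add_one_le_iff] at h
    exact h l hl
  · rw [List.getD_eq_default _ _ hk] at hl
    simp at hl

theorem run_eq : ∀ (w : List ℕ), (∀ k ∈ w, k < 13) → ∀ i : Fin 2058,
    run w i = (phi (el w) i : ℕ) := by
  intro w
  induction w with
  | nil => intro _ i; simp [el, H45.evalW]; rfl
  | cons k w ih =>
    intro hw i
    have hk : k < 13 := hw k (by simp)
    have h := (lall_iff _ _).mp cols_ok k (List.mem_range.mpr hk)
    rw [allN_iff] at h
    have h2 := h _ (phi (el w) i).isLt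
    rw [Nat.beq_eq] at h2
    show cget (gcols.getD k 0) (run w i) = _
    rw [ih (fun a ha => hw a (List.mem_cons_of_mem _ ha)) i, h2, imgWd_eq _ gw_lt]
    simp only [el, evalW_cons, map_mul, Equiv.Perm.mul_apply]

theorem el_eq_of_sameR {u v : List ℕ} (hu : ∀ k ∈ u, k < 13) (hv : ∀ k ∈ v, k < 13)
    (h : sameR u v = true) : el u = el v := by
  simp only [sameR, lall_iff, Nat.beq_eq] at h
  rw [← inv_mul_eq_one]
  refine eq_one_of_fix fun i hi => ?_
  have h1 := h i hi
  rw [run_eq u hu i, run_eq v hv i] at h1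
  rw [map_mul, map_inv, Equiv.Perm.mul_apply, ← Fin.ext h1, Equiv.Perm.inv_def,
    Equiv.symm_apply_apply]

theorem sameR_of_el {u v : List ℕ} (hu : ∀ k ∈ u, k < 13) (hv : ∀ k ∈ v, k < 13)
    (h : el u = el v) : sameR u v = true := by
  simp only [sameR, lall_iff, Nat.beq_eq]
  intro p hp
  have hb : p < 2058 := by
    simp only [bases, List.mem_cons, List.not_mem_nil, or_false] at hp; omega
  have e1 := run_eq u hu ⟨p, hb⟩
  have e2 := run_eq v hv ⟨p, hb⟩
  rw [h] at e1
  exact e1.trans e2.symm

/-- the element of order 17 -/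
noncomputable def xx : Gp := el [11]

/-- the inverting involution -/
noncomputable def ee : Gp := el [12]

/-- the third generator -/
noncomputable def uu : Gp := el [9]

theorem ee_eq : ee = H59.HeCentMain.z := by
  simp [ee, el, gw, H45.evalW, H59.HeCentMain.z]

theorem trans_lt {i : ℕ} {w : List ℕ} (hw : w ∈ nth [] trans i) : ∀ k ∈ w, k < 11 := by
  intro k hk
  have hi : i < trans.length := by
    by_contra h
    have : nth ([] : List (List ℕ)) trans i = [] := by
      have h4 : trans.length = 4 := by
        simpa using congrArg List.length trans_lengths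
      obtain ⟨j, rfl⟩ : ∃ j, i = j + 4 := ⟨i - 4, by omega⟩
      rfl
    rw [this] at hw; simp at hw
  rw [nth_eq_getElem _ _ _ hi] at hw
  have h := (lall_iff _ _).mp ((lall_iff _ _).mp trans_idx _ (List.getElem_mem hi)) w hw
  rw [lall_iff] at h
  simpa using h k hk

theorem el_mem_centralizer : ∀ (w : List ℕ), (∀ k ∈ w, k < 11) →
    el w ∈ Subgroup.centralizer ({ee} : Set Gp) := by
  intro w
  induction w with
  | nil => intro _; exact one_mem _
  | cons k w ih =>
    intro hw
    have hk : k < 11 := hw k (by simp)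
    rw [← List.singleton_append, el_append]
    refine mul_mem ?_ (ih fun a ha => hw a (List.mem_cons_of_mem _ ha))
    have h := (lall_iff _ _).mp commute_e k (List.mem_range.mpr hk)
    have h1 := el_eq_of_sameR (by simp; omega) (by simp; omega) h
    rw [Subgroup.mem_centralizer_singleton_iff, ee, ← el_append, ← el_append]
    exact h1

/-- index tuples along the transversals -/
abbrev Idx : Type := Fin 42 × Fin 16 × Fin 8 × Fin 4

/-- the word of an index tuple -/
noncomputable def wordOf (t : Idx) : List ℕ :=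
  nth [] (nth [] trans 0) t.1 ++ (nth [] (nth [] trans 1) t.2.1 ++
    (nth [] (nth [] trans 2) t.2.2.1 ++ nth [] (nth [] trans 3) t.2.2.2))

theorem level_length : (nth [] trans 0).length = 42 ∧ (nth [] trans 1).length = 16 ∧
    (nth [] trans 2).length = 8 ∧ (nth [] trans 3).length = 4 := by
  have h := trans_lengths
  have h4 : trans.length = 4 := by simpa using congrArg List.length h
  have g : ∀ i (hi : i < 4), (nth [] trans i).length = ([42, 16, 8, 4] : List ℕ).getD i 0 := by
    intro i hi
    rw [nth_eq_getElem _ _ _ (by omega), ← h,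
      List.getD_eq_getElem _ _ (by rw [List.length_map]; omega), List.getElem_map]
  exact ⟨g 0 (by omega), g 1 (by omega), g 2 (by omega), g 3 (by omega)⟩

theorem wordOf_mem (t : Idx) :
    nth [] (nth [] trans 0) t.1 ∈ nth [] trans 0 ∧
    nth [] (nth [] trans 1) t.2.1 ∈ nth [] trans 1 ∧
    nth [] (nth [] trans 2) t.2.2.1 ∈ nth [] trans 2 ∧
    nth [] (nth [] trans 3) t.2.2.2 ∈ nth [] trans 3 :=
  ⟨nth_mem _ _ _ (by rw [level_length.1]; exact t.1.isLt),
    nth_mem _ _ _ (by rw [level_length.2.1]; exact t.2.1.isLt),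
    nth_mem _ _ _ (by rw [level_length.2.2.1]; exact t.2.2.1.isLt),
    nth_mem _ _ _ (by rw [level_length.2.2.2]; exact t.2.2.2.isLt)⟩

theorem wordOf_lt (t : Idx) : ∀ k ∈ wordOf t, k < 11 := by
  intro k hk
  obtain ⟨ha, hb, hc, hd⟩ := wordOf_mem t
  simp only [wordOf, List.mem_append] at hk
  rcases hk with hk | hk | hk | hk
  exacts [trans_lt ha k hk, trans_lt hb k hk, trans_lt hc k hk, trans_lt hd k hk]

theorem basis_lt {i : ℕ} (hi : i < 4) : nth 0 bases i < 2058 := by
  interval_cases i <;> decide

/-- the base points -/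
noncomputable def bp (i : Fin 4) : Fin 2058 := ⟨nth 0 bases i, basis_lt i.isLt⟩

theorem fix_base {i : ℕ} (hi : i < 4) {j : Fin 4} (hji : (j : ℕ) < i) {w : List ℕ}
    (hw : w ∈ nth [] trans i) : phi (el w) (bp j) = bp j := by
  have h := (lall_iff _ _).mp ((lall_iff _ _).mp
    ((lall_iff _ _).mp trans_fix i (List.mem_range.mpr hi)) j (List.mem_range.mpr hji)) w hw
  rw [Nat.beq_eq] at h
  apply Fin.ext
  rw [← run_eq w (fun k hk => by have := trans_lt hw k hk; omega) (bp j)]
  exact h

theorem inj_level {i : Fin 4} {a b : ℕ} (ha : a < (nth [] trans i).length)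
    (hb : b < (nth [] trans i).length)
    (h : phi (el (nth [] (nth [] trans i) a)) (bp i) = phi (el (nth [] (nth [] trans i) b)) (bp i)) :
    a = b := by
  have hd := (distinct_sound _ _ ((lall_iff _ _).mp trans_distinct i (List.mem_range.mpr i.isLt))).1
  have hl : ∀ c, c < (nth [] trans i).length → ∀ k ∈ nth [] (nth [] trans i) c, k < 13 :=
    fun c hc k hk => by have := trans_lt (nth_mem _ _ _ hc) k hk; omega
  have h' := congrArg Fin.val h
  rw [← run_eq _ (hl a ha) (bp i), ← run_eq _ (hl b hb) (bp i), nth_eq_getElem _ _ _ ha,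
    nth_eq_getElem _ _ _ hb] at h'
  exact (hd.getElem_inj_iff (hi := by simpa using ha) (hj := by simpa using hb)).mp
    (by rw [List.getElem_map, List.getElem_map]; exact h')

theorem wordOf_injective : Function.Injective fun t : Idx => el (wordOf t) := by
  intro s t h
  obtain ⟨la, lb, lc, ld⟩ := level_length
  obtain ⟨sa, sb, sc, sd⟩ := wordOf_mem s
  obtain ⟨ta, tb, tc, td⟩ := wordOf_mem t
  simp only [wordOf, el_append] at h
  have f : ∀ {i : ℕ} (_ : i < 4) {j : Fin 4} (_ : (j : ℕ) < i) {w : List ℕ}
      (_ : w ∈ nth [] trans i), phi (el w) (bp j) = bp j := fun {i} hi {j} hji {w} hw => fix_base hi hji hw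
  obtain ⟨s1, s2, s3, s4⟩ := s
  obtain ⟨t1, t2, t3, t4⟩ := t
  have h1 := congrArg (fun g => phi g (bp 0)) h
  simp only [map_mul, Equiv.Perm.mul_apply, f (i := 1) (by omega) (j := 0) (by decide) sb,
    f (i := 2) (by omega) (j := 0) (by decide) sc, f (i := 3) (by omega) (j := 0) (by decide) sd,
    f (i := 1) (by omega) (j := 0) (by decide) tb, f (i := 2) (by omega) (j := 0) (by decide) tc,
    f (i := 3) (by omega) (j := 0) (by decide) td] at h1
  have e1 : s1 = t1 := Fin.ext (inj_level (i := 0) (la.symm ▸ s1.isLt) (la.symm ▸ t1.isLt) h1)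
  subst e1
  replace h := mul_left_cancel h
  have h2 := congrArg (fun g => phi g (bp 1)) h
  simp only [map_mul, Equiv.Perm.mul_apply, f (i := 2) (by omega) (j := 1) (by decide) sc,
    f (i := 3) (by omega) (j := 1) (by decide) sd, f (i := 2) (by omega) (j := 1) (by decide) tc,
    f (i := 3) (by omega) (j := 1) (by decide) td] at h2
  have e2 : s2 = t2 := Fin.ext (inj_level (i := 1) (lb.symm ▸ s2.isLt) (lb.symm ▸ t2.isLt) h2)
  subst e2
  replace h := mul_left_cancel h
  have h3 := congrArg (fun g => phi g (bp 2)) h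
  simp only [map_mul, Equiv.Perm.mul_apply, f (i := 3) (by omega) (j := 2) (by decide) sd,
    f (i := 3) (by omega) (j := 2) (by decide) td] at h3
  have e3 : s3 = t3 := Fin.ext (inj_level (i := 2) (lc.symm ▸ s3.isLt) (lc.symm ▸ t3.isLt) h3)
  subst e3
  replace h := mul_left_cancel h
  have e4 : s4 = t4 := Fin.ext (inj_level (i := 3) (ld.symm ▸ s4.isLt) (ld.symm ▸ t4.isLt)
    (congrArg (fun g => phi g (bp 3)) h))
  rw [e4]

/-- every element centralising the involution is a product along the transversals -/
theorem exists_word {c : Gp} (hc : c ∈ Subgroup.centralizer ({ee} : Set Gp)) :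
    ∃ t : Idx, el (wordOf t) = c := by
  classical
  obtain ⟨hfin, -, -⟩ := HeMain.order_facts
  have := hfin
  let F : Idx → Subgroup.centralizer ({ee} : Set Gp) := fun t =>
    ⟨el (wordOf t), el_mem_centralizer _ (wordOf_lt t)⟩
  have hinj : Function.Injective F := fun s t h => wordOf_injective (congrArg Subtype.val h)
  have hb : Function.Bijective F := by
    refine (Nat.bijective_iff_injective_and_card F).mpr ⟨hinj, le_antisymm
      (Nat.card_le_card_of_injective F hinj) ?_⟩
    rw [ee_eq]
    refine H59.HeCentMain.card_centralizer_z.trans ?_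
    simp [Nat.card_eq_fintype_card]
  obtain ⟨t, ht⟩ := hb.2 ⟨c, hc⟩
  exact ⟨t, congrArg Subtype.val ht⟩

theorem allProd_apply {f : List ℕ → Bool} (h : allProd f = true) (t : Idx) :
    f (wordOf t) = true := by
  obtain ⟨ha, hb, hc, hd⟩ := wordOf_mem t
  simp only [allProd, lall_iff] at h
  exact h _ ha _ hb _ hc _ hd

end Cfsg.Agent.H23.HeOut
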