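import Cfsg.Agent.H23.HeOut.ChecksDefs

/-!
Kernel check noCube_ok for the automorphism group of the presented Held group, in blocks.
-/

set_option autoImplicit false
set_option maxRecDepth 100000
set_option Elab.async false

namespace Cfsg.Agent.H23.HeOut

open Cfsg.Agent.Compute Cfsg.Agent.H45 Cfsg.Agent.H59.HeCentBase

theorem noCube_ok_0 : chunkL (nth [] trans 0) (prodFrom (fun w => !Nat.beq (run (w ++ [11]) 1) (run ([11, 11, 11] ++ w) 1) ||
    !Nat.beq (run (w ++ [11]) 15) (run ([11, 11, 11] ++ w) 15))) 7 0 = true := by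
  decide +kernel

theorem noCube_ok_1 : chunkL (nth [] trans 0) (prodFrom (fun w => !Nat.beq (run (w ++ [11]) 1) (run ([11, 11, 11] ++ w) 1) ||
    !Nat.beq (run (w ++ [11]) 15) (run ([11, 11, 11] ++ w) 15))) 7 1 = true := by
  decide +kernel

theorem noCube_ok_2 : chunkL (nth [] trans 0) (prodFrom (fun w => !Nat.beq (run (w ++ [11]) 1) (run ([11, 11, 11] ++ w) 1) ||
    !Nat.beq (run (w ++ [11]) 15) (run ([11, 11, 11] ++ w) 15))) 7 2 = true := by
  decide +kernel

theorem noCube_ok_3 : chunkL (nth [] trans 0) (prodFrom (fun w => !Nat.beq (run (w ++ [11]) 1) (run ([11, 11, 11] ++ w) 1) ||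
    !Nat.beq (run (w ++ [11]) 15) (run ([11, 11, 11] ++ w) 15))) 7 3 = true := by
  decide +kernel

theorem noCube_ok_4 : chunkL (nth [] trans 0) (prodFrom (fun w => !Nat.beq (run (w ++ [11]) 1) (run ([11, 11, 11] ++ w) 1) ||
    !Nat.beq (run (w ++ [11]) 15) (run ([11, 11, 11] ++ w) 15))) 7 4 = true := by
  decide +kernel

theorem noCube_ok_5 : chunkL (nth [] trans 0) (prodFrom (fun w => !Nat.beq (run (w ++ [11]) 1) (run ([11, 11, 11] ++ w) 1) ||
    !Nat.beq (run (w ++ [11]) 15) (run ([11, 11, 11] ++ w) 15))) 7 5 = true := by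
  decide +kernel

theorem noCube_ok : noCube = true :=
  allProd_of_parts (by decide +kernel) fun k hk => by
    interval_cases k
    exacts [noCube_ok_0, noCube_ok_1, noCube_ok_2, noCube_ok_3, noCube_ok_4, noCube_ok_5]

end Cfsg.Agent.H23.HeOut
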