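import Cfsg.Agent.H23.HeOut.ChecksDefs

/-!
Kernel check unique_three for the automorphism group of the presented Held group, in blocks.
-/

set_option autoImplicit false
set_option maxRecDepth 100000
set_option Elab.async false

namespace Cfsg.Agent.H23.HeOut

open Cfsg.Agent.Compute Cfsg.Agent.H45 Cfsg.Agent.H59.HeCentBase

theorem unique_three_0 : chunkL (nth [] trans 0) (prodFrom (fun w => !cand 3 w || sameR w [3, 9, 3])) 7 0 = true := by
  decide +kernel

theorem unique_three_1 : chunkL (nth [] trans 0) (prodFrom (fun w => !cand 3 w || sameR w [3, 9, 3])) 7 1 = true := by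
  decide +kernel

theorem unique_three_2 : chunkL (nth [] trans 0) (prodFrom (fun w => !cand 3 w || sameR w [3, 9, 3])) 7 2 = true := by
  decide +kernel

theorem unique_three_3 : chunkL (nth [] trans 0) (prodFrom (fun w => !cand 3 w || sameR w [3, 9, 3])) 7 3 = true := by
  decide +kernel

theorem unique_three_4 : chunkL (nth [] trans 0) (prodFrom (fun w => !cand 3 w || sameR w [3, 9, 3])) 7 4 = true := by
  decide +kernel

theorem unique_three_5 : chunkL (nth [] trans 0) (prodFrom (fun w => !cand 3 w || sameR w [3, 9, 3])) 7 5 = true := by
  decide +kernel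

theorem unique_three : uniqueCand 3 [3, 9, 3] = true :=
  allProd_of_parts (by decide +kernel) fun k hk => by
    interval_cases k
    exacts [unique_three_0, unique_three_1, unique_three_2, unique_three_3, unique_three_4, unique_three_5]

end Cfsg.Agent.H23.HeOut
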