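import Cfsg.Agent.H23.HeOut.ChecksOne
import Cfsg.Agent.H23.HeOut.ChecksThree
import Cfsg.Agent.H23.HeOut.ChecksCube

/-!
Kernel checks for the automorphism group of the presented Held group.
-/

set_option autoImplicit false
set_option maxRecDepth 100000
set_option Elab.async false

namespace Cfsg.Agent.H23.HeOut

open Cfsg.Agent.Compute Cfsg.Agent.H45 Cfsg.Agent.H59.HeCentBase

theorem gw_letters : (lall gw fun w => lettersOK w) = true := by decide +kernel

theorem cols_ok : (lall (List.range 13) fun k => allN 2058 fun i =>
    Nat.beq (cget (gcols.getD k 0) i) (imgWd (gw.getD k []) i)) = true := by decide +kernel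

theorem trans_idx : (lall trans fun T => lall T fun w => lall w fun k => Nat.ble (k + 1) 11) = true := by
  decide +kernel

theorem trans_fix : (lall (List.range 4) fun i => lall (List.range i) fun j =>
    lall (nth [] trans i) fun w => Nat.beq (run w (nth 0 bases j)) (nth 0 bases j)) = true := by
  decide +kernel

theorem trans_distinct : (lall (List.range 4) fun i =>
    distinct ((nth [] trans i).map fun w => run w (nth 0 bases i)) 0) = true := by
  decide +kernel

theorem trans_lengths : trans.map List.length = [42, 16, 8, 4] := by decide +kernel

theorem commute_e : (lall (List.range 11) fun k => sameR [k, 12] [12, k]) = true := by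
  decide +kernel

theorem basic_ok : (sameR [12, 12] [] && sameR (List.replicate 17 11) [] && !sameR [11] [] &&
    sameR [12, 11, 12] (List.replicate 16 11) && sameR [9, 9] []) = true := by decide +kernel

theorem u_rels : (sameR (relWord 1 4 9 3 [9]) [] && sameR (relWord 1 7 10 2 [9]) []) = true := by
  decide +kernel

/-- the words of three generators use only their indices -/
theorem gens3_ok : (lall (List.range 7) fun l => idxOK (nth [] gens3 l) &&
    (lall (nth [] gens3 l) fun k => Nat.beq k 9 || Nat.beq k 11 || Nat.beq k 12) &&
    lall bases fun p => Nat.beq (imgWd [l] p) (run (nth [] gens3 l) p)) = true := by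
  decide +kernel

theorem outer_idx : (lall outer fun w => idxOK w) = true := by decide +kernel

theorem outer_rels : (lall (HePres.pres.R) fun r => sameR (expandW outer r) []) = true := by
  decide +kernel

theorem outer_three : (sameR (expandW outer (gw.getD 11 [])) [11, 11, 11] &&
    sameR (expandW outer (gw.getD 12 [])) [12] &&
    sameR (expandW outer (gw.getD 9 [])) [3, 9, 3]) = true := by decide +kernel

theorem y_ok : (lettersOK yWord &&
    sameBase (yWord ++ gw.getD 11 []) (exw [11, 11] ++ yWord)) = true := by decide +kernel

theorem x_fix : (allN 2058 fun i => !Nat.beq (run [11] i) i || Nat.beq i 0) = true := by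
  decide +kernel

theorem x_zero : run [11] 0 = 0 := by decide +kernel

end Cfsg.Agent.H23.HeOut
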