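import Cfsg.Agent.H23.HeOut.Data
import Cfsg.Agent.H59.HeCentBase
import Cfsg.Agent.Compute.Chunk

/-!
Definitions of the kernel checks for the automorphism group of the presented Held group.
-/

set_option autoImplicit false
set_option maxRecDepth 100000
set_option Elab.async false

namespace Cfsg.Agent.H23.HeOut

open Cfsg.Agent.Compute Cfsg.Agent.H45 Cfsg.Agent.H59.HeCentBase

/-- image of a point under a word in the short words -/
noncomputable def run (w : List ℕ) (p : ℕ) : ℕ :=
  List.rec p (fun k _ ih => cget (gcols.getD k 0) ih) w

/-- the word in the letters -/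
def exw (w : List ℕ) : List ℕ := expandW gw w

/-- all short-word indices valid -/
noncomputable def idxOK (w : List ℕ) : Bool := lall w fun k => Nat.ble (k + 1) 13

/-- same images of the base points -/
noncomputable def sameR (u v : List ℕ) : Bool :=
  lall bases fun p => Nat.beq (run u p) (run v p)

/-- `[x ^ a, w, x ^ b, w]` repeated `m` times -/
def relWord (j a b m : ℕ) (w : List ℕ) : List ℕ :=
  (List.replicate m (List.replicate (j * a) 11 ++ w ++ (List.replicate (j * b) 11 ++ w))).flatten

/-- the conditions on the image of the third generator -/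
noncomputable def cand (j : ℕ) (w : List ℕ) : Bool :=
  Nat.beq (run (w ++ w) 100) 100 &&
    (Nat.beq (run (relWord j 4 9 3 w) 15) 15 || Nat.beq j 3) &&
    (Nat.beq (run (relWord j 4 9 3 w) 1500) 1500 || Nat.beq j 1) &&
    Nat.beq (run (relWord j 7 10 2 w) 1) 1

/-- all products along the transversals -/
noncomputable def allProd (f : List ℕ → Bool) : Bool :=
  lall (nth [] trans 0) fun a => lall (nth [] trans 1) fun b =>
    lall (nth [] trans 2) fun c => lall (nth [] trans 3) fun d => f (a ++ (b ++ (c ++ d)))

/-- every candidate is the given element -/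
noncomputable def uniqueCand (j : ℕ) (t : List ℕ) : Bool :=
  allProd fun w => !cand j w || sameR w t

/-- no element conjugates the element of order 17 to its cube -/
noncomputable def noCube : Bool :=
  allProd fun w => !Nat.beq (run (w ++ [11]) 1) (run ([11, 11, 11] ++ w) 1) ||
    !Nat.beq (run (w ++ [11]) 15) (run ([11, 11, 11] ++ w) 15)

/-- The products beginning with one element of the first transversal. -/
noncomputable def prodFrom (f : List ℕ → Bool) (a : List ℕ) : Bool :=
  lall (nth [] trans 1) fun b => lall (nth [] trans 2) fun c => lall (nth [] trans 3) fun d =>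
    f (a ++ (b ++ (c ++ d)))

theorem allProd_of_parts {f : List ℕ → Bool} (hl : Nat.ble (nth [] trans 0).length (6 * 7) = true)
    (h : ∀ k < 6, chunkL (nth [] trans 0) (prodFrom f) 7 k = true) : allProd f = true :=
  lall_of_chunks (f := prodFrom f) 7 6 hl h

end Cfsg.Agent.H23.HeOut
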