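import Cfsg.Agent.H23.HeOut.ChecksDefs

/-!
Kernel check unique_one for the automorphism group of the presented Held group, in blocks.
-/

set_option autoImplicit false
set_option maxRecDepth 100000
set_option Elab.async false

namespace Cfsg.Agent.H23.HeOut

open Cfsg.Agent.Compute Cfsg.Agent.H45 Cfsg.Agent.H59.HeCentBase

theorem unique_one_0 : chunkL (nth [] trans 0) (prodFrom (fun w => !cand 1 w || sameR w [9])) 7 0 = true := by
  decide +kernel

theorem unique_one_1 : chunkL (nth [] trans 0) (prodFrom (fun w => !cand 1 w || sameR w [9])) 7 1 = true := by
  decide +kernel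

theorem unique_one_2 : chunkL (nth [] trans 0) (prodFrom (fun w => !cand 1 w || sameR w [9])) 7 2 = true := by
  decide +kernel

theorem unique_one_3 : chunkL (nth [] trans 0) (prodFrom (fun w => !cand 1 w || sameR w [9])) 7 3 = true := by
  decide +kernel

theorem unique_one_4 : chunkL (nth [] trans 0) (prodFrom (fun w => !cand 1 w || sameR w [9])) 7 4 = true := by
  decide +kernel

theorem unique_one_5 : chunkL (nth [] trans 0) (prodFrom (fun w => !cand 1 w || sameR w [9])) 7 5 = true := by
  decide +kernel

theorem unique_one : uniqueCand 1 [9] = true :=
  allProd_of_parts (by decide +kernel) fun k hk => by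
    interval_cases k
    exacts [unique_one_0, unique_one_1, unique_one_2, unique_one_3, unique_one_4, unique_one_5]

end Cfsg.Agent.H23.HeOut
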