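import Cfsg.Agent.H23.HeOut.SingerTwist
import Cfsg.Agent.H23.HeOut.SingerLin

/-!
The centraliser of an element of order 17 in the point stabiliser of the presented Held group.
-/

set_option autoImplicit false

namespace Cfsg.Agent.H23.HeOut

open Cfsg.Agent.H45 Cfsg.Agent.H59.HeSp4 Matrix

theorem count_lin : (Finset.univ.filter fun i : Fin 255 => candOK false (lab i) = true).card ≤ 17 := by
  simp only [lin_block_all, blk_cover]
  decide +kernel

theorem none_twist (i : Fin 255) : candOK true (lab i) = false := twist_block_all i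

set_option maxRecDepth 100000 in
theorem krylov_inv : ∀ tw : Bool, (Matrix.of fun (r : I4) (c : I4) =>
    ((aMat tw) ^ (pos c) *ᵥ v0) r) * matOf (if tw then kInvF else kInv) = 1 := by
  decide +kernel

set_option maxRecDepth 100000 in
theorem xMat_eq : ((xH.map fun l => mat l).prod) = matOf xMat := by decide +kernel

theorem iterX_eq (k : ℕ) (w : I4 → F4) : iterX k w = (matOf xMat) ^ k *ᵥ w := by
  induction k with
  | zero => simp [iterX]
  | succ k ih => rw [iterX, ih, Matrix.mulVec_mulVec, ← pow_succ']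

theorem mat_eq_cand (tw : Bool) {g : Matrix I4 I4 F4} (h : g * aMat tw = matOf xMat * g) :
    g = candMat tw (g *ᵥ v0) := by
  have hk : ∀ k : ℕ, g * aMat tw ^ k = matOf xMat ^ k * g := by
    intro k
    induction k with
    | zero => simp
    | succ k ih => rw [pow_succ, ← mul_assoc, ih, mul_assoc, h, ← mul_assoc, ← pow_succ]
  have h1 : g * (Matrix.of fun (r : I4) (c : I4) => ((aMat tw) ^ (pos c) *ᵥ v0) r) =
      Matrix.of fun r c => iterX (pos c) (g *ᵥ v0) r := by
    ext r c
    rw [Matrix.mul_apply_eq_vecMul, Matrix.of_apply, iterX_eq, Matrix.mulVec_mulVec, ← hk,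
      ← Matrix.mulVec_mulVec]
    rfl
  unfold candMat
  rw [← h1, mul_assoc, krylov_inv, mul_one]

theorem mem_semi {p : Equiv.Perm (Fin 255)} (hp : p ∈ semi) :
    ∃ g : Sp4, p = lin g ∨ p = lin g * frobPerm := by
  have h := Subgroup.coe_mul_of_right_le_normalizer_left lin.range (Subgroup.zpowers frobPerm)
    frob_normalizer
  have hp' : p ∈ ((semi : Subgroup _) : Set (Equiv.Perm (Fin 255))) := hp
  rw [semi, h] at hp'
  obtain ⟨_, ⟨g, rfl⟩, z, hz, rfl⟩ := Set.mem_mul.mp hp'
  obtain ⟨k, rfl⟩ := Subgroup.mem_zpowers_iff.mp hz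
  refine ⟨g, ?_⟩
  rcases Int.even_or_odd k with ⟨m, rfl⟩ | ⟨m, rfl⟩
  · left
    rw [← two_mul, _root_.zpow_mul, show frobPerm ^ (2 : ℤ) = 1 by
      rw [show (2 : ℤ) = ((2 : ℕ) : ℤ) from rfl, zpow_natCast, pow_two, frobPerm_sq],
      _root_.one_zpow, mul_one]
  · right
    rw [_root_.zpow_add_one, _root_.zpow_mul, show frobPerm ^ (2 : ℤ) = 1 by
      rw [show (2 : ℤ) = ((2 : ℕ) : ℤ) from rfl, zpow_natCast, pow_two, frobPerm_sq],
      _root_.one_zpow, one_mul]

theorem lin_v0 (g : Sp4) : lab (lin g (idx v0)) = (g : Matrix I4 I4 F4) *ᵥ v0 := by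
  have hne : v0 ≠ 0 := by simp [v0]
  rw [lin_apply, lab_idx _ hne, lab_idx _ (mulVec_ne g hne)]

theorem frobPerm_v0 : frobPerm (idx v0) = idx v0 := by decide +kernel

/-- the element of order 17 in the point stabiliser -/
theorem card_centralizer_xH (x : HeMain.H) (hx : (x : HePres.pres.Gp) = evalW eH xH) :
    Nat.card (Subgroup.centralizer ({x} : Set HeMain.H)) ≤ 17 := by
  classical
  obtain ⟨hE, θ, hinj, hθ, -, hsemi, -⟩ := exists_theta
  have hmat : ∀ l (hl : l < 7), H59.HeSpCert.twist.getD l false = false →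
      θ ⟨eH l, hE l hl⟩ = lin ⟨mat l, SymplecticGroup.mem_iff.mpr (mat_mem ⟨l, hl⟩)⟩ := by
    intro l hl hb
    rw [hθ l hl]
    refine Equiv.ext fun i => Fin.ext ?_
    have h := congrArg Fin.val (table_eq ⟨l, hl⟩ i)
    have hlt := (permCheck_PT H59.HeSpCert.perm_ok).lt l hl i i.isLt
    simp only [hb, Bool.false_eq_true, if_false, Nat.mod_eq_of_lt hlt] at h
    simpa [sig, hl, lin_apply, linv_range] using h.symm
  have key : ∀ (w : List ℕ), (∀ l ∈ w, l < 7 ∧ H59.HeSpCert.twist.getD l false = false) →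
      ∀ y : HeMain.H, (y : HePres.pres.Gp) = evalW eH w →
        ∃ g : Sp4, (g : Matrix I4 I4 F4) = (w.map fun l => mat l).prod ∧ θ y = lin g := by
    intro w
    induction w with
    | nil =>
      intro _ y hy
      refine ⟨1, rfl, ?_⟩
      rw [show y = 1 from Subtype.ext hy, map_one, map_one]
    | cons l w ih =>
      intro hw y hy
      have hl := hw l List.mem_cons_self
      have hy' : (((⟨eH l, hE l hl.1⟩ : HeMain.H)⁻¹ * y : HeMain.H) : HePres.pres.Gp) =
          evalW eH w := by
        rw [Subgroup.coe_mul, Subgroup.coe_inv, hy, evalW_cons]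
        exact inv_mul_cancel_left _ _
      obtain ⟨g, hg, hgθ⟩ := ih (fun a ha => hw a (List.mem_cons_of_mem _ ha)) _ hy'
      refine ⟨⟨mat l, SymplecticGroup.mem_iff.mpr (mat_mem ⟨l, hl.1⟩)⟩ * g, ?_, ?_⟩
      · rw [Submonoid.coe_mul, hg, List.map_cons, List.prod_cons]
      · rw [map_mul, ← hgθ, ← hmat l hl.1 hl.2, ← map_mul, mul_inv_cancel_left]
  obtain ⟨X, hX0, hXθ⟩ := key xH (by decide) x hx
  have hX : (X : Matrix I4 I4 F4) = matOf xMat := hX0.trans xMat_eq
  let C := Subgroup.centralizer ({x} : Set HeMain.H)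
  have hC : ∀ c : C, ∃ g : Sp4, θ (c : HeMain.H) = lin g ∧
      (g : Matrix I4 I4 F4) = candMat false ((g : Matrix I4 I4 F4) *ᵥ v0) ∧
      candOK false ((g : Matrix I4 I4 F4) *ᵥ v0) = true := by
    intro c
    have hc : θ (c : HeMain.H) * lin X = lin X * θ (c : HeMain.H) := by
      rw [← hXθ, ← map_mul, ← map_mul, Subgroup.mem_centralizer_singleton_iff.mp c.2]
    have hmem : θ (c : HeMain.H) ∈ semi := hsemi ▸ ⟨_, rfl⟩
    obtain ⟨g, hg | hg⟩ := mem_semi hmem
    · have h1 : g * X = X * g := lin_injective (by rw [map_mul, map_mul, ← hg, hc])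
      have h2 : (g : Matrix I4 I4 F4) * aMat false = matOf xMat * (g : Matrix I4 I4 F4) := by
        have := congrArg Subtype.val h1
        rw [Submonoid.coe_mul, Submonoid.coe_mul, hX] at this
        exact this
      have h3 := mat_eq_cand false h2
      refine ⟨g, hg, h3, ?_⟩
      unfold candOK
      rw [Bool.and_eq_true, decide_eq_true_eq, decide_eq_true_eq, ← h3]
      exact ⟨h2, SymplecticGroup.mem_iff.mp g.2⟩
    · exfalso
      rw [hg] at hc
      have h4 : frobPerm * lin X = lin ⟨_, map_mem X⟩ * frobPerm := by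
        rw [← frob_conj, inv_mul_cancel_right]
      rw [mul_assoc, h4, ← mul_assoc, ← mul_assoc, mul_left_inj, ← map_mul, ← map_mul] at hc
      have h1 := congrArg Subtype.val (lin_injective hc)
      rw [Submonoid.coe_mul, Submonoid.coe_mul] at h1
      have h2 : (g : Matrix I4 I4 F4) * aMat true = matOf xMat * (g : Matrix I4 I4 F4) := by
        rw [← hX, ← h1]
        show _ * (matOf xMat).map frob = _ * (X : Matrix I4 I4 F4).map frob
        rw [hX]
      have h3 := mat_eq_cand true h2
      have h5 := none_twist (lin g (idx v0))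
      rw [lin_v0] at h5
      have h6 : candOK true ((g : Matrix I4 I4 F4) *ᵥ v0) = true := by
        unfold candOK
        rw [Bool.and_eq_true, decide_eq_true_eq, decide_eq_true_eq, ← h3]
        exact ⟨h2, SymplecticGroup.mem_iff.mp g.2⟩
      rw [h5] at h6
      exact Bool.false_ne_true h6
  choose f hf1 hf2 hf3 using hC
  let S := Finset.univ.filter fun i : Fin 255 => candOK false (lab i) = true
  let F : C → S := fun c => ⟨lin (f c) (idx v0), by
    simp only [S, Finset.mem_filter, Finset.mem_univ, true_and, lin_v0]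
    exact hf3 c⟩
  refine (Nat.card_le_card_of_injective F fun a b h => ?_).trans ?_
  · have h1 : lin (f a) (idx v0) = lin (f b) (idx v0) := congrArg Subtype.val h
    have h2 := congrArg lab h1
    rw [lin_v0, lin_v0] at h2
    have h3 : f a = f b := Subtype.ext (by rw [hf2 a, hf2 b, h2])
    exact Subtype.ext (hinj (by rw [hf1, hf1, h3]))
  · rw [Nat.card_eq_finsetCard]
    exact count_lin

end Cfsg.Agent.H23.HeOut
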