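import Cfsg.Agent.H23.HeOut.Centraliser
import Cfsg.Agent.H23.HeOut.Singer
import Cfsg.Prelude.Def_KGroupFacts

/-!
The outer automorphism group of the presented Held group has order two.
-/

set_option autoImplicit false

namespace Cfsg.Agent.H23.HeOut

open Cfsg.Agent.Compute Cfsg.Agent.H45 Cfsg.Agent.H59.HeCentBase

local notation "Gp" => HePres.pres.Gp

/-- a homomorphism given by images of the letters satisfying the relators -/
theorem exists_hom {Gen : Type} [DecidableEq Gen] {P : Pres Gen} (h : P.OK) {K : Type} [Group K]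
    (f : Gen → K) (hrel : ∀ w ∈ P.R, evalW (eOf P.gl f) w = 1) :
    ∃ φ : P.Gp →* K, ∀ l, l < P.gl.length → φ (P.e l) = eOf P.gl f l := by
  have hcox : CoxHolds P.edges f :=
    coxHolds_of_words h.all h.check fun w hw => hrel w (List.mem_append_left _ hw)
  have hext : ∀ r ∈ P.extra, FreeGroup.lift f r = 1 := by
    intro r hr
    have h1 := h.extra_eval _ f
      (fun x => (eq_inv_of_mul_eq_one_left (sq_of_coxHolds hcox h.nodes x)).symm)
    have h2 : FreeGroup.lift f r ∈ P.extra.map (FreeGroup.lift f) :=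
      List.mem_map.mpr ⟨r, hr, rfl⟩
    rw [h1, List.mem_map] at h2
    obtain ⟨w, hw, hwr⟩ := h2
    rw [← hwr]
    exact hrel w (List.mem_append_right _ hw)
  have hall : ∀ r ∈ Spor.coxRelators P.edges ∪ {r | r ∈ P.extra}, FreeGroup.lift f r = 1 := by
    rintro r (⟨x, hx, y, hy, rfl⟩ | hr)
    · simpa [map_pow, map_mul, FreeGroup.lift_apply_of] using hcox x hx y hy
    · exact hext r hr
  refine ⟨PresentedGroup.toGroup hall, fun l hl => ?_⟩
  simp only [Pres.e, eOf, List.getElem?_eq_getElem hl, Option.elim_some]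
  exact PresentedGroup.toGroup.of hall

theorem card_out_of_dichotomy {G : Type*} [Group G] [Finite G] (τ : MulAut G)
    (hτ : τ ∉ Inn G) (hall : ∀ α : MulAut G, ∃ g : G, α = MulAut.conj g ∨ α = MulAut.conj g * τ) :
    Nat.card (Out G) = 2 := by
  rw [Nat.card_eq_two_iff]
  refine ⟨1, QuotientGroup.mk τ, fun h => hτ ((QuotientGroup.eq_one_iff τ).mp h.symm), ?_⟩
  rw [Set.eq_univ_iff_forall]
  intro q
  induction q using QuotientGroup.induction_on with
  | _ α =>
    obtain ⟨g, rfl | rfl⟩ := hall α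
    · exact Or.inl ((QuotientGroup.eq_one_iff _).mpr ⟨g, rfl⟩)
    · refine Or.inr (Set.mem_singleton_iff.mpr ?_)
      rw [QuotientGroup.mk_mul, (QuotientGroup.eq_one_iff (N := Inn G) _).mpr ⟨g, rfl⟩, one_mul]

theorem el_single_mem {k : ℕ} {S : Subgroup Gp} (h : el [k] ∈ S) {w : List ℕ}
    (hw : ∀ a ∈ w, a = k) : el w ∈ S := by
  rw [show w = List.replicate w.length k from List.eq_replicate_iff.mpr ⟨rfl, hw⟩, el_const]
  exact S.pow_mem h _

theorem letter_eq {l : ℕ} (hl : l < 7) : HePres.pres.e l = el (nth [] gens3 l) := by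
  have h := (lall_iff _ _).mp gens3_ok l (List.mem_range.mpr hl)
  simp only [Bool.and_eq_true, idxOK, lall_iff, Nat.ble_eq, Nat.beq_eq, Nat.add_one_le_iff] at h
  rw [← inv_mul_eq_one]
  refine eq_one_of_fix fun i hi => ?_
  have h1 := h.2 i hi
  rw [imgWd_eq _ (by simpa using hl) i, run_eq _ h.1.1 i] at h1
  have h2 : H45.evalW HePres.pres.e [l] = HePres.pres.e l := by simp [H45.evalW]
  rw [h2] at h1
  rw [map_mul, map_inv, Equiv.Perm.mul_apply, ← Fin.ext h1, Equiv.Perm.inv_def,
    Equiv.symm_apply_apply]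

/-- two homomorphisms agreeing on three elements are equal -/
theorem hom_ext_three (f g : Gp →* Gp) (hx : f xx = g xx) (he : f ee = g ee) (hu : f uu = g uu) :
    f = g := by
  have key : ∀ w : List ℕ, (∀ k ∈ w, k = 9 ∨ k = 11 ∨ k = 12) → f (el w) = g (el w) := by
    intro w
    induction w with
    | nil => intro _; simp [el, H45.evalW]
    | cons k w ih =>
      intro hw
      rw [← List.singleton_append, el_append, map_mul, map_mul,
        ih fun a ha => hw a (List.mem_cons_of_mem _ ha)]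
      congr 1
      rcases hw k List.mem_cons_self with rfl | rfl | rfl
      exacts [hu, hx, he]
  have htop : (⊤ : Subgroup Gp) ≤ f.eqLocus g := by
    rw [← HePres.ok.gen, Subgroup.closure_le]
    rintro _ ⟨l, hl, rfl⟩
    rw [HeMain.rl] at hl
    show f _ = g _
    have h := (lall_iff _ _).mp gens3_ok l (List.mem_range.mpr hl)
    simp only [Bool.and_eq_true, Bool.or_eq_true, lall_iff, Nat.beq_eq] at h
    rw [letter_eq hl]
    exact key _ fun k hk => by rcases h.1.2 k hk with (h' | h') | h' <;> simp [h']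
  exact MonoidHom.ext fun a => htop (Subgroup.mem_top a)

theorem xx_pow : xx ^ 17 = 1 := by
  have h := basic_ok
  simp only [Bool.and_eq_true] at h
  have h1 := el_eq_of_sameR (by simp) (by simp) h.1.1.1.2
  rwa [el_const] at h1

theorem order_xx : orderOf xx = 17 := by
  refine orderOf_eq_prime (hp := ⟨by norm_num⟩) xx_pow fun h => ?_
  have h' := basic_ok
  simp only [Bool.and_eq_true, Bool.not_eq_true'] at h'
  rw [sameR_of_el (u := [11]) (v := []) (by simp) (by simp) h] at h'
  exact Bool.false_ne_true h'.1.1.2.symm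

theorem ee_sq : ee * ee = 1 := by
  have h := basic_ok
  simp only [Bool.and_eq_true] at h
  rw [ee, ← el_append]
  exact el_eq_of_sameR (u := [12, 12]) (v := []) (by simp) (by simp) h.1.1.1.1

theorem uu_sq : uu * uu = 1 := by
  have h := basic_ok
  simp only [Bool.and_eq_true] at h
  rw [uu, ← el_append]
  exact el_eq_of_sameR (u := [9, 9]) (v := []) (by simp) (by simp) h.2

theorem ee_inverts : ee * xx * ee⁻¹ = xx⁻¹ := by
  have h := basic_ok
  simp only [Bool.and_eq_true] at h
  have h1 := el_eq_of_sameR (u := [12, 11, 12]) (by simp) (by simp) h.1.2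
  rw [el_const, show [12, 11, 12] = [12] ++ ([11] ++ [12]) from rfl, el_append, el_append,
    ← mul_assoc] at h1
  rw [inv_eq_of_mul_eq_one_right ee_sq]
  refine h1.trans (eq_inv_of_mul_eq_one_left ?_)
  rw [show el [11] = xx from rfl, ← pow_succ]
  exact xx_pow

theorem xx_mem : xx ∈ HeMain.H := by
  have h : el [11] = evalW HePres.pres.e (expandW HeI2058.subWords xH) := by
    simp only [el, evalW_cons, evalW_nil, mul_one]
    rfl
  rw [xx, h, evalW_expand]
  refine list_prod_mem fun a ha => ?_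
  obtain ⟨l, hl, rfl⟩ := List.mem_map.mp ha
  have hl7 : ∀ k ∈ xH, k < HeI2058.subWords.length := by decide
  exact Subgroup.subset_closure ⟨_, by
    rw [List.getD_eq_getElem _ _ (hl7 l hl)]; exact List.getElem_mem _, rfl⟩

theorem xx_fix_unique {i : Fin 2058} (h : phi xx i = i) : (i : ℕ) = 0 := by
  have h1 := x_fix
  rw [allN_iff] at h1
  have h2 := h1 i i.isLt
  rw [run_eq [11] (by simp) i, show el [11] = xx from rfl, h] at h2
  simpa using h2

theorem centralizer_xx {c : Gp} (hc : Commute c xx) : c ∈ Subgroup.zpowers xx := by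
  classical
  obtain ⟨hfin, -, -⟩ := HeMain.order_facts
  have := hfin
  obtain ⟨F, hF0, hF⟩ := phi_coset
  have h0 : phi xx 0 = 0 := Fin.ext (by
    have := run_eq [11] (by simp) (0 : Fin 2058)
    rw [show el [11] = xx from rfl] at this
    exact this.symm.trans x_zero)
  have hcH : ∀ {d : Gp}, Commute d xx → d ∈ HeMain.H := by
    intro d hd
    have h1 : phi xx (phi d 0) = phi d 0 := by
      rw [← Equiv.Perm.mul_apply, ← map_mul, ← hd.eq, map_mul, Equiv.Perm.mul_apply, h0]
    have h2 : phi d 0 = 0 := Fin.ext (xx_fix_unique h1)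
    have h3 := hF d (QuotientGroup.mk 1)
    rw [MulAction.Quotient.smul_coe, smul_eq_mul, mul_one, hF0, h2] at h3
    have h4 := F.injective (h3.trans hF0.symm)
    rw [QuotientGroup.eq, mul_one] at h4
    exact inv_mem_iff.mp h4
  let x' : HeMain.H := ⟨xx, xx_mem⟩
  have hle : Nat.card (Subgroup.centralizer ({xx} : Set Gp)) ≤ 17 := by
    refine le_trans (Nat.card_le_card_of_injective
      (fun d : Subgroup.centralizer ({xx} : Set Gp) => (⟨⟨d.1, hcH
        (Subgroup.mem_centralizer_singleton_iff.mp d.2)⟩,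
          Subgroup.mem_centralizer_singleton_iff.mpr
            (Subtype.ext (Subgroup.mem_centralizer_singleton_iff.mp d.2))⟩ :
          Subgroup.centralizer ({x'} : Set HeMain.H)))
      fun a b h => Subtype.ext (congrArg (fun t => ((t.1 : HeMain.H) : Gp)) h :)) ?_
    refine card_centralizer_xH x' ?_
    show xx = _
    simp only [xx, el, evalW_cons, evalW_nil, mul_one]
    show evalW HePres.pres.e (expandW HeI2058.subWords xH) = _
    exact evalW_expand _ _ _
  have hzle : Subgroup.zpowers xx ≤ Subgroup.centralizer ({xx} : Set Gp) :=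
    Subgroup.zpowers_le.mpr (Subgroup.mem_centralizer_singleton_iff.mpr rfl)
  rw [Subgroup.eq_of_le_of_card_ge hzle (by rw [Nat.card_zpowers, order_xx]; exact hle)]
  exact Subgroup.mem_centralizer_singleton_iff.mpr hc

/-- the normalising element -/
noncomputable def yy : Gp := evalW HePres.pres.e yWord

theorem yy_conj : yy * xx * yy⁻¹ = xx ^ 2 := by
  have h := y_ok
  simp only [Bool.and_eq_true, lettersOK, lall_iff, Nat.ble_eq, Nat.add_one_le_iff] at h
  have hex : ∀ l ∈ exw [11, 11], l < 7 := by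
    intro l hl
    simp only [exw, expandW, List.mem_flatMap] at hl
    obtain ⟨k, -, hk⟩ := hl
    exact gw_lt l hk
  have h1 := (sameBase_iff (fun l hl => (List.mem_append.mp hl).elim (h.1 l) (gw_lt l))
    (fun l hl => (List.mem_append.mp hl).elim (hex l) (h.1 l))).mp h.2
  rw [evalW_append, evalW_append, exw, evalW_expand] at h1
  have h2 : evalW HePres.pres.e (gw.getD 11 []) = xx := by simp [xx, el, H45.evalW]
  have h3 : el [11, 11] = xx ^ 2 := by rw [pow_two, xx, ← el_append]; rfl
  rw [h2] at h1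
  change yy * xx = el [11, 11] * yy at h1
  rw [mul_inv_eq_iff_eq_mul, h1, h3]

theorem yy_pow_conj (j : ℕ) : ∀ m : ℕ, yy ^ j * xx ^ m * (yy ^ j)⁻¹ = xx ^ (2 ^ j * m) := by
  induction j with
  | zero => intro m; simp
  | succ j ih =>
    intro m
    rw [pow_succ, mul_inv_rev, show yy ^ j * yy * xx ^ m * (yy⁻¹ * (yy ^ j)⁻¹) =
      yy ^ j * (yy * xx ^ m * yy⁻¹) * (yy ^ j)⁻¹ by group, ← conj_pow, yy_conj, ← pow_mul, ih]
    congr 1
    ring

theorem residue_cases : ∀ k : ℕ, k < 17 → k ≠ 0 → ∃ j : Fin 8,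
    2 ^ (j : ℕ) * k % 17 = 1 ∨ 2 ^ (j : ℕ) * k % 17 = 3 := by decide

theorem shift_cases : ∀ k : ℕ, k < 17 → ∃ m : Fin 17, (k + 2 * (m : ℕ)) % 17 = 0 := by decide

theorem xx_cube_ne : xx ^ 3 ≠ 1 := fun h => by
  have := orderOf_dvd_of_pow_eq_one h
  rw [order_xx] at this
  norm_num at this

/-- every automorphism can be normalised -/
theorem exists_normal (α : MulAut Gp) : ∃ g : Gp,
    ((MulAut.conj g * α) xx = xx ∨ (MulAut.conj g * α) xx = xx ^ 3) ∧
    (MulAut.conj g * α) ee = ee := by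
  classical
  obtain ⟨hfin, hcard, -⟩ := HeMain.order_facts
  have := hfin
  haveI : Fact (Nat.Prime 17) := ⟨by norm_num⟩
  have hfac : (Nat.card Gp).factorization 17 = 1 := by
    rw [hcard, show (4030387200 : ℕ) = 17 * 237081600 from rfl,
      Nat.factorization_mul (by norm_num) (by norm_num)]
    simp [Nat.Prime.factorization_self (show Nat.Prime 17 by norm_num),
      Nat.factorization_eq_zero_of_not_dvd (show ¬ 17 ∣ 237081600 by norm_num)]
  have hP : Nat.card (Subgroup.zpowers xx) = 17 ^ (Nat.card Gp).factorization 17 := by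
    rw [hfac, pow_one, Nat.card_zpowers, order_xx]
  have hQ : Nat.card (Subgroup.zpowers (α xx)) = 17 ^ (Nat.card Gp).factorization 17 := by
    rw [hfac, pow_one, Nat.card_zpowers, MulEquiv.orderOf_eq, order_xx]
  let P : Sylow 17 Gp := Sylow.ofCard _ hP
  let Q : Sylow 17 Gp := Sylow.ofCard _ hQ
  obtain ⟨g, hg⟩ := MulAction.exists_smul_eq Gp Q P
  have hmem : g * α xx * g⁻¹ ∈ Subgroup.zpowers xx := by
    have h : g * α xx * g⁻¹ ∈ (((g • Q : Sylow 17 Gp)) : Subgroup Gp) := by
      rw [Sylow.coe_subgroup_smul]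
      exact ⟨α xx, Subgroup.mem_zpowers _, by simp [MulAut.conj_apply]⟩
    rw [hg] at h
    simpa [P] using h
  have hord := order_xx
  obtain ⟨k, hk, hkeq⟩ : ∃ k, k < 17 ∧ xx ^ k = g * α xx * g⁻¹ := by
    obtain ⟨k, hk⟩ := mem_powers_iff_mem_zpowers.mpr hmem
    exact ⟨k % 17, Nat.mod_lt _ (by norm_num), by
      rw [← hord, pow_mod_orderOf]; exact hk⟩
  have hk0 : k ≠ 0 := by
    rintro rfl
    rw [pow_zero, eq_comm, conj_eq_one_iff, MulEquiv.map_eq_one_iff] at hkeq
    rw [hkeq, orderOf_one] at hord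
    norm_num at hord
  obtain ⟨j, hj⟩ := residue_cases k hk hk0
  set g₁ := yy ^ (j : ℕ) * g with hg₁
  have hx1 : g₁ * α xx * g₁⁻¹ = xx ∨ g₁ * α xx * g₁⁻¹ = xx ^ 3 := by
    have e : g₁ * α xx * g₁⁻¹ = xx ^ (2 ^ (j : ℕ) * k) := by
      rw [← yy_pow_conj, hkeq, hg₁]; group
    rw [e, ← pow_mod_orderOf, hord]
    rcases hj with h | h <;> rw [h]
    · exact Or.inl (pow_one _)
    · exact Or.inr rfl
  have hinv : g₁ * α ee * g₁⁻¹ * xx * (g₁ * α ee * g₁⁻¹)⁻¹ = xx⁻¹ := by
    let β : MulAut Gp := MulAut.conj g₁ * α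
    have hb : ∀ a, g₁ * α a * g₁⁻¹ = β a := fun a => rfl
    rw [hb] at hx1
    rw [hb]
    have h1 : β ee * β xx * (β ee)⁻¹ = (β xx)⁻¹ := by
      rw [← map_inv, ← map_mul, ← map_mul, ee_inverts, map_inv]
    rcases hx1 with h | h
    · rwa [h] at h1
    · rw [h] at h1
      have h6 : (β ee * xx ^ 3 * (β ee)⁻¹) ^ 6 = ((xx ^ 3)⁻¹) ^ 6 := by rw [h1]
      rw [conj_pow, inv_pow, ← pow_mul] at h6
      have h18 : xx ^ (3 * 6) = xx := by
        rw [show 3 * 6 = 17 + 1 from rfl, pow_add, xx_pow, one_mul, pow_one]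
      rwa [h18] at h6
  have hcomm : Commute (g₁ * α ee * g₁⁻¹ * ee) xx := by
    have h2 : ee * xx = xx⁻¹ * ee := mul_inv_eq_iff_eq_mul.mp ee_inverts
    have h3 : g₁ * α ee * g₁⁻¹ * xx⁻¹ = xx * (g₁ * α ee * g₁⁻¹) := by
      have h4 := congrArg (·⁻¹) hinv
      simp only [mul_inv_rev, inv_inv] at h4
      rw [← mul_inv_eq_iff_eq_mul]
      rw [mul_assoc]
      simpa [mul_assoc] using h4
    show _ * _ = _ * _
    rw [mul_assoc, h2, ← mul_assoc, h3, mul_assoc]
  obtain ⟨c, hc17, hc⟩ : ∃ c, c < 17 ∧ xx ^ c = g₁ * α ee * g₁⁻¹ * ee := by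
    obtain ⟨c, hc⟩ := mem_powers_iff_mem_zpowers.mpr (centralizer_xx hcomm)
    exact ⟨c % 17, Nat.mod_lt _ (by norm_num), by rw [← hord, pow_mod_orderOf]; exact hc⟩
  obtain ⟨m, hm⟩ := shift_cases c hc17
  refine ⟨xx ^ (m : ℕ) * g₁, ?_, ?_⟩
  · have e : (MulAut.conj (xx ^ (m : ℕ) * g₁) * α) xx =
        xx ^ (m : ℕ) * (g₁ * α xx * g₁⁻¹) * (xx ^ (m : ℕ))⁻¹ := by
      show xx ^ (m : ℕ) * g₁ * α xx * (xx ^ (m : ℕ) * g₁)⁻¹ = _
      group
    rw [e]
    rcases hx1 with h | h <;> rw [h]
    · exact Or.inl (by group)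
    · exact Or.inr (by group)
  · show xx ^ (m : ℕ) * g₁ * α ee * (xx ^ (m : ℕ) * g₁)⁻¹ = ee
    have e : g₁ * α ee * g₁⁻¹ = xx ^ c * ee := by
      rw [hc, mul_assoc _ ee ee, ee_sq, mul_one]
    have h2 : ee * (xx ^ (m : ℕ))⁻¹ = xx ^ (m : ℕ) * ee := by
      rw [← inv_pow, ← mul_inv_eq_iff_eq_mul, ← conj_pow]
      congr 1
      conv_lhs => rw [← ee_inverts]
      rw [inv_eq_of_mul_eq_one_right ee_sq]
      simp only [← mul_assoc, ee_sq, one_mul]
      rw [mul_assoc, ee_sq, mul_one]
    calc xx ^ (m : ℕ) * g₁ * α ee * (xx ^ (m : ℕ) * g₁)⁻¹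
        = xx ^ (m : ℕ) * (g₁ * α ee * g₁⁻¹) * (xx ^ (m : ℕ))⁻¹ := by group
      _ = xx ^ (m : ℕ) * xx ^ c * (ee * (xx ^ (m : ℕ))⁻¹) := by rw [e]; group
      _ = xx ^ (c + 2 * (m : ℕ)) * ee := by
        rw [h2, ← mul_assoc, ← pow_add, ← pow_add]; congr 2; omega
      _ = ee := by rw [← pow_mod_orderOf, hord, hm, pow_zero, one_mul]

/-- the relation words at the value of a candidate -/
theorem el_relWord (j a b m : ℕ) (w : List ℕ) : el (relWord j a b m w) =
    (xx ^ (j * a) * el w * (xx ^ (j * b) * el w)) ^ m := by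
  rw [relWord, el_replicate, el_append, el_append, el_append, el_const, el_const]
  rfl

theorem relWord_lt {j a b m : ℕ} {w : List ℕ} (hw : ∀ k ∈ w, k < 13) :
    ∀ k ∈ relWord j a b m w, k < 13 := by
  intro k hk
  simp only [relWord, List.mem_flatten, List.mem_replicate] at hk
  obtain ⟨l, ⟨-, rfl⟩, hk⟩ := hk
  simp only [List.mem_append, List.mem_replicate] at hk
  rcases hk with (⟨-, rfl⟩ | h) | ⟨-, rfl⟩ | h
  exacts [by omega, hw k h, by omega, hw k h]

/-- the image of the third generator is determined -/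
theorem image_uu {j : ℕ} {t : List ℕ} (hu : uniqueCand j t = true) (ht : ∀ k ∈ t, k < 13)
    {β : MulAut Gp} (hx : β xx = xx ^ j) (he : β ee = ee) : β uu = el t := by
  have hc : β uu ∈ Subgroup.centralizer ({ee} : Set Gp) := by
    rw [Subgroup.mem_centralizer_singleton_iff]
    conv_lhs => rw [← he, ← map_mul]
    conv_rhs => rw [← he, ← map_mul]
    congr 1
    exact Subgroup.mem_centralizer_singleton_iff.mp (el_mem_centralizer [9] (by simp))
  obtain ⟨i, hi⟩ := exists_word hc
  have hlt : ∀ k ∈ wordOf i, k < 13 := fun k hk => by have := wordOf_lt i k hk; omega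
  have h := allProd_apply hu i
  simp only [Bool.or_eq_true, Bool.not_eq_true'] at h
  rcases h with h | h
  · exfalso
    have hr := u_rels
    simp only [Bool.and_eq_true] at hr
    have key : ∀ a b m, sameR (relWord 1 a b m [9]) [] = true →
        el (relWord j a b m (wordOf i)) = 1 := by
      intro a b m h1
      have h2 := el_eq_of_sameR (relWord_lt (by simp)) (by simp) h1
      rw [el_relWord, one_mul, one_mul] at h2
      have h3 := congrArg β h2
      rw [show el [9] = uu from rfl, show el [] = (1 : Gp) from rfl, map_pow, map_mul, map_mul,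
        map_mul, map_pow, map_pow, map_one, hx, ← hi, ← pow_mul, ← pow_mul] at h3
      rw [el_relWord]
      exact h3
    have hfix : ∀ {w : List ℕ}, (∀ k ∈ w, k < 13) → el w = 1 → ∀ p, p < 2058 →
        Nat.beq (run w p) p = true := by
      intro w hw hw1 p hp
      rw [Nat.beq_eq]
      have := run_eq w hw ⟨p, hp⟩
      rw [hw1, map_one] at this
      exact this
    have hsq : el (wordOf i ++ wordOf i) = 1 := by
      rw [el_append, hi, ← map_mul, uu_sq, map_one]
    have hsq' : ∀ k ∈ wordOf i ++ wordOf i, k < 13 := fun k hk =>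
      (List.mem_append.mp hk).elim (hlt k) (hlt k)
    have hc1 : cand j (wordOf i) = true := by
      simp only [cand, Bool.and_eq_true, Bool.or_eq_true]
      exact ⟨⟨⟨hfix hsq' hsq 100 (by norm_num),
        Or.inl (hfix (relWord_lt hlt) (key 4 9 3 hr.1) 15 (by norm_num))⟩,
        Or.inl (hfix (relWord_lt hlt) (key 4 9 3 hr.1) 1500 (by norm_num))⟩,
        hfix (relWord_lt hlt) (key 7 10 2 hr.2) 1 (by norm_num)⟩
    rw [hc1] at h
    exact Bool.false_ne_true h.symm
  · rw [← hi]
    exact el_eq_of_sameR hlt ht h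

/-- no inner automorphism cubes the element of order 17 and fixes the involution -/
theorem no_cube {g : Gp} (he : g * ee * g⁻¹ = ee) : g * xx * g⁻¹ ≠ xx ^ 3 := by
  intro h
  have hc : g ∈ Subgroup.centralizer ({ee} : Set Gp) :=
    Subgroup.mem_centralizer_singleton_iff.mpr (mul_inv_eq_iff_eq_mul.mp he)
  obtain ⟨i, rfl⟩ := exists_word hc
  have hlt : ∀ k ∈ wordOf i, k < 13 := fun k hk => by have := wordOf_lt i k hk; omega
  have h1 : el (wordOf i ++ [11]) = el ([11, 11, 11] ++ wordOf i) := by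
    rw [el_append, el_append, show [11, 11, 11] = List.replicate 3 11 from rfl, el_const]
    exact mul_inv_eq_iff_eq_mul.mp h
  have hu1 : ∀ k ∈ wordOf i ++ [11], k < 13 := fun k hk =>
    (List.mem_append.mp hk).elim (hlt k) (by simp; omega)
  have hu2 : ∀ k ∈ [11, 11, 11] ++ wordOf i, k < 13 := fun k hk =>
    (List.mem_append.mp hk).elim (by simp; omega) (hlt k)
  have h2 := allProd_apply noCube_ok i
  have key : ∀ p, p < 2058 → Nat.beq (run (wordOf i ++ [11]) p)
      (run ([11, 11, 11] ++ wordOf i) p) = true := by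
    intro p hp
    rw [Nat.beq_eq, run_eq _ hu1 ⟨p, hp⟩, run_eq _ hu2 ⟨p, hp⟩, h1]
  rw [key 1 (by norm_num), key 15 (by norm_num)] at h2
  exact Bool.false_ne_true h2

theorem eOf_outer {l : ℕ} (hl : l < 7) :
    eOf HePres.pres.gl (fun a => el (outer.getD (ixOf HePres.pres.gl a) [])) l =
      el (outer.getD l []) := by
  interval_cases l <;> rfl

theorem exists_outer : ∃ τ : MulAut Gp, τ xx = xx ^ 3 ∧ τ ee = ee := by
  classical
  obtain ⟨hfin, -, -⟩ := HeMain.order_facts
  have := hfin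
  haveI := HeMain.isSimple
  set f := fun a => el (outer.getD (ixOf HePres.pres.gl a) []) with hf
  have hev : ∀ r : List ℕ, (∀ l ∈ r, l < 7) →
      evalW (eOf HePres.pres.gl f) r = el (expandW outer r) := by
    intro r
    induction r with
    | nil => intro _; rfl
    | cons l r ih =>
      intro hr
      rw [evalW_cons, ih fun a ha => hr a (List.mem_cons_of_mem _ ha),
        eOf_outer (hr l List.mem_cons_self)]
      exact (el_append _ _).symm
  have hout : ∀ (r : List ℕ), ∀ k ∈ expandW outer r, k < 13 := by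
    intro r k hk
    simp only [expandW, List.mem_flatMap] at hk
    obtain ⟨l, -, hk⟩ := hk
    rcases Nat.lt_or_ge l outer.length with hl | hl
    · rw [List.getD_eq_getElem _ _ hl] at hk
      have h := (lall_iff _ _).mp outer_idx _ (List.getElem_mem hl)
      simp only [idxOK, lall_iff, Nat.ble_eq, Nat.add_one_le_iff] at h
      exact h k hk
    · rw [List.getD_eq_default _ _ hl] at hk; simp at hk
  have hR : ∀ r ∈ HePres.pres.R, ∀ l ∈ r, l < 7 := by decide +kernel
  obtain ⟨φ, hφ⟩ := exists_hom HePres.ok f fun r hr => by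
    rw [hev r (hR r hr)]
    exact el_eq_of_sameR (hout r) (by simp) ((lall_iff _ _).mp outer_rels r hr)
  have himg : ∀ k, φ (el [k]) = el (expandW outer (gw.getD k [])) := by
    intro k
    rw [← hev _ gw_lt]
    simp only [el, evalW_cons, evalW_nil, mul_one]
    unfold H45.evalW
    rw [map_list_prod, List.map_map]
    exact congrArg List.prod (List.map_congr_left fun l hl => hφ l (gw_lt l hl))
  have h3 := outer_three
  simp only [Bool.and_eq_true] at h3
  have hx : φ xx = xx ^ 3 := by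
    rw [xx, himg, el_eq_of_sameR (hout _) (by simp) h3.1.1, ← el_const]
    rfl
  have he : φ ee = ee := by
    rw [ee, himg, el_eq_of_sameR (hout _) (by simp) h3.1.2]
  have hinj : Function.Injective φ := by
    rw [← φ.ker_eq_bot_iff]
    refine ((inferInstance : φ.ker.Normal).eq_bot_or_eq_top).resolve_right fun h => ?_
    have : φ xx = 1 := by
      rw [← MonoidHom.mem_ker, h]; exact Subgroup.mem_top _
    rw [hx] at this
    exact xx_cube_ne this
  exact ⟨MulEquiv.ofBijective φ (Finite.injective_iff_bijective.mp hinj), hx, he⟩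

/-- the main result -/
theorem card_out : Nat.card (Out Gp) = 2 := by
  obtain ⟨hfin, -, -⟩ := HeMain.order_facts
  have := hfin
  obtain ⟨τ, hτx, hτe⟩ := exists_outer
  have hu3 : ∀ β : MulAut Gp, β xx = xx ^ 3 → β ee = ee → β uu = el [3, 9, 3] :=
    fun β hx he => image_uu unique_three (by simp) hx he
  have hu1 : ∀ β : MulAut Gp, β xx = xx → β ee = ee → β uu = uu :=
    fun β hx he => image_uu (j := 1) unique_one (by simp) (by rw [hx, pow_one]) he
  have ext3 : ∀ β γ : MulAut Gp, β xx = γ xx → β ee = γ ee → β uu = γ uu → β = γ := by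
    intro β γ h1 h2 h3
    have h := hom_ext_three β.toMonoidHom γ.toMonoidHom h1 h2 h3
    exact MulEquiv.ext fun a => DFunLike.congr_fun h a
  refine card_out_of_dichotomy τ ?_ fun α => ?_
  · rintro ⟨g, rfl⟩
    exact no_cube hτe hτx
  · obtain ⟨g, hx, he⟩ := exists_normal α
    refine ⟨g⁻¹, ?_⟩
    rcases hx with hx | hx
    · left
      rw [map_inv, eq_inv_iff_mul_eq_one, mul_eq_one_comm]
      exact ext3 _ 1 hx he (hu1 _ hx he)
    · right
      rw [map_inv, eq_inv_mul_iff_mul_eq]
      exact ext3 _ τ (hx.trans hτx.symm) (he.trans hτe.symm)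
        ((hu3 _ hx he).trans (hu3 τ hτx hτe).symm)

end Cfsg.Agent.H23.HeOut
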