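import Cfsg.Agent.H23.HeOut.Data
import Cfsg.Agent.H59.HeSp4

/-!
The candidate matrices for the centraliser of an element of order 17 in the Held point stabiliser.
-/

set_option autoImplicit false

namespace Cfsg.Agent.H23.HeOut

open Cfsg.Agent.H45 Cfsg.Agent.H59.HeSp4 Matrix

/-- a matrix from its codes -/
def matOf (L : List (List ℕ)) : Matrix I4 I4 F4 :=
  Matrix.of fun r c => ofCode ((L.getD (pos r) []).getD (pos c) 0)

/-- the first unit vector -/
def v0 : I4 → F4 := Pi.single (Sum.inl 0) 1

/-- iterated image of a vector -/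
def iterX : ℕ → (I4 → F4) → I4 → F4
  | 0, w => w
  | k + 1, w => matOf xMat *ᵥ iterX k w

/-- the only candidate sending `v0` to `w` -/
def candMat (tw : Bool) (w : I4 → F4) : Matrix I4 I4 F4 :=
  (Matrix.of fun r c => iterX (pos c) w r) * matOf (if tw then kInvF else kInv)

/-- the conjugated matrix -/
def aMat (tw : Bool) : Matrix I4 I4 F4 :=
  if tw then (matOf xMat).map frob else matOf xMat

/-- the candidate is a symplectic solution -/
def candOK (tw : Bool) (w : I4 → F4) : Bool :=
  decide (candMat tw w * aMat tw = matOf xMat * candMat tw w) &&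
    decide (candMat tw w * Matrix.J (Fin 2) F4 * (candMat tw w)ᵀ = Matrix.J (Fin 2) F4)

/-- Spread an index of a block of 32 over the 255 points. -/
def blk (k : ℕ) (j : Fin 32) : Fin 255 := Fin.ofNat 255 (32 * k + j.val)

/-- The indices of the symplectic candidates. -/
def linSol : List ℕ := [13, 56, 61, 81, 86, 105, 122, 136, 138, 151, 192, 214, 223, 230, 238, 240, 242]

theorem blk_cover (i : Fin 255) : blk (i.val / 32) ⟨i.val % 32, Nat.mod_lt _ (by norm_num)⟩ = i := by
  apply Fin.ext
  show (32 * (i.val / 32) + i.val % 32) % 255 = i.val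
  rw [Nat.div_add_mod, Nat.mod_eq_of_lt i.isLt]

end Cfsg.Agent.H23.HeOut
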