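import Cfsg.Agent.H23.HeOut.SingerDefs

/-!
Kernel checks of the candidate matrices, in blocks.
-/

set_option autoImplicit false
set_option Elab.async false
set_option maxRecDepth 100000

namespace Cfsg.Agent.H23.HeOut

open Cfsg.Agent.H45 Cfsg.Agent.H59.HeSp4 Matrix

theorem twist_block_0 : ∀ j : Fin 32, candOK true (lab (blk 0 j)) = false := by
  decide +kernel

theorem twist_block_1 : ∀ j : Fin 32, candOK true (lab (blk 1 j)) = false := by
  decide +kernel

theorem twist_block_2 : ∀ j : Fin 32, candOK true (lab (blk 2 j)) = false := by
  decide +kernel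

theorem twist_block_3 : ∀ j : Fin 32, candOK true (lab (blk 3 j)) = false := by
  decide +kernel

theorem twist_block_4 : ∀ j : Fin 32, candOK true (lab (blk 4 j)) = false := by
  decide +kernel

theorem twist_block_5 : ∀ j : Fin 32, candOK true (lab (blk 5 j)) = false := by
  decide +kernel

theorem twist_block_6 : ∀ j : Fin 32, candOK true (lab (blk 6 j)) = false := by
  decide +kernel

theorem twist_block_7 : ∀ j : Fin 32, candOK true (lab (blk 7 j)) = false := by
  decide +kernel

theorem twist_block_all (i : Fin 255) : candOK true (lab i) = false := by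
  have hk : i.val / 32 < 8 := by omega
  have e := blk_cover i
  generalize (⟨i.val % 32, Nat.mod_lt _ (by norm_num)⟩ : Fin 32) = j at e ⊢
  generalize i.val / 32 = k at hk e ⊢
  subst e
  interval_cases k
  exacts [twist_block_0 j, twist_block_1 j, twist_block_2 j, twist_block_3 j, twist_block_4 j, twist_block_5 j, twist_block_6 j, twist_block_7 j]

end Cfsg.Agent.H23.HeOut
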